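import Cfsg.Agent.Lib.Comp.CLow
import Cfsg.Agent.Lib.Comp.CPres

/-! Double coset enumeration certificates over a permutation group `H` acting on "symmetric generators". -/

set_option autoImplicit false

namespace CA.DCos
open Equiv CA.CNet CA.CWord CA.CLevel CA.CSimple CA.CPoint CA.CTodd

universe u

/-- `τ a • p i = h • p j` (`τ a = 1` if `a` is out of range) -/
structure Fact where
  i : ℕ
  a : ℕ
  j : ℕ
  h : Word
  deriving DecidableEq

noncomputable def fget (F : List (List Fact)) (m : ℕ) : Fact :=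
  nth (nth F [] (Nat.shiftRight m 5)) ⟨0, 0, 0, []⟩ (Nat.land m 31)

noncomputable def nx (f : ℕ → ℕ → ℕ) (k : ℕ → ℕ) (h : Word) (b : ℕ) : ℕ := force (k b) (ipt f h)

noncomputable def walk (f : ℕ → ℕ → ℕ) (n : ℕ) (F : List (List Fact)) (t : ℕ)
    (fin : ℕ → (ℕ → ℕ) → List ℕ → Bool) (mv : List ℕ) : ℕ → (ℕ → ℕ) → List ℕ → Bool :=
  List.rec (motive := fun _ => ℕ → (ℕ → ℕ) → List ℕ → Bool) fin
    (fun m _ ih c k ls => force (Nat.shiftRight m 1) fun q => band (Nat.blt q t)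
      (Fact.rec (motive := fun _ => Bool) (fun i a j h => Bool.rec
        (band (Nat.beq i c) (Bool.rec
          (List.rec (motive := fun _ => Bool) false
            (fun l ls' _ => band (Nat.beq (k l) a) (ih j (nx f k h) ls')) ls)
          (ih j (nx f k h) ls) (Nat.ble n a)))
        (band (band (Nat.beq j c) (Nat.ble n a)) (ih i (nx f k (winv h)) ls))
        (Nat.beq (Nat.land m 1) 1)) (fget F q))) mv

noncomputable def chk (f : ℕ → ℕ → ℕ) (n : ℕ) (B : List ℕ) (F : List (List Fact)) (t : ℕ) (e : Fact)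
    (R : List ℕ × Word) (u : Word) (mv : List ℕ) : Bool :=
  walk f n F t (fun c k ls => band (Nat.beq c e.i) (band
    (List.rec (motive := fun _ => Bool) (Nat.ble n e.a) (fun l ls' _ => band (isNil ls') (Nat.beq (k l) e.a)) ls)
    (lall B fun b => band (Nat.blt b n) (Nat.beq (nx f k e.h b) (nx f (ipt f R.2) u b))))) mv e.j (ipt f u) R.1

structure Sys (C : Ctx) (H : Subgroup (Perm (Fin C.n))) (X : Type u) where
  ρ : H →* Perm X
  μ : Fin C.n → X → X
  p : ℕ → X
  eqv : ∀ (h : H) a ξ, μ (h.1 a) (ρ h ξ) = ρ h (μ a ξ)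
  mem : ∀ w, C.ev w ∈ H

variable {C : Ctx} {H : Subgroup (Perm (Fin C.n))} {X : Type u} {f : ℕ → ℕ → ℕ}

def Inv (u : H) (k : ℕ → ℕ) : Prop := ∀ b : Fin C.n, k b = (u.1⁻¹ b : Fin C.n)

namespace Sys
variable (S : Sys C H X)
def m (a : ℕ) (ξ : X) : X := if h : a < C.n then S.μ ⟨a, h⟩ ξ else ξ
noncomputable def w (u : Word) : H := ⟨C.ev u, S.mem u⟩
def Holds (e : Fact) : Prop := S.m e.a (S.p e.i) = S.ρ (S.w e.h) (S.p e.j)
def app (ls : List ℕ) (ξ : X) : X := ls.foldl (fun ξ l => S.m l ξ) ξ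
def Rel (R : List ℕ × Word) : Prop := ∀ ξ, S.app R.1 ξ = S.ρ (S.w R.2) ξ

theorem w_nil : S.w [] = 1 := rfl
theorem w_lapp (u v : Word) : S.w (lapp u v) = S.w u * S.w v := Subtype.ext (ev_lapp _ _ _)
theorem w_winv (u : Word) : S.w (winv u) = (S.w u)⁻¹ := Subtype.ext (ev_winv _ _)
theorem m_ge {a : ℕ} (h : C.n ≤ a) (ξ : X) : S.m a ξ = ξ := dif_neg (Nat.not_lt.2 h)
theorem m_fin (a : Fin C.n) (ξ : X) : S.m a ξ = S.μ a ξ := dif_pos a.2
theorem m_inv {u : H} {k : ℕ → ℕ} (h : Inv u k) {l : ℕ} (hl : l < C.n) (ξ : X) :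
    S.m l (S.ρ u ξ) = S.ρ u (S.m (k l) ξ) := by
  rw [h ⟨l, hl⟩, m_fin, ← S.eqv]; simp [m, hl]

theorem inv_nx (hf : Good C f) {u : H} {k : ℕ → ℕ} (h : Inv u k) (v : Word) : Inv (u * S.w v) (nx f k v) := fun b => by
  rw [nx, force_eq, h, ipt_eq hf]; simp [w]

theorem inv_ipt (hf : Good C f) (v : Word) : Inv (S.w v) (ipt f v) := fun b => ipt_eq hf v b

variable {S}
theorem walk_sound (hf : Good C f) {F : List (List Fact)} {t : ℕ} (hF : ∀ q < t, S.Holds (fget F q))
    {fin : ℕ → (ℕ → ℕ) → List ℕ → Bool} (mv : List ℕ) {c : ℕ} {u : H} {k : ℕ → ℕ} {ls : List ℕ} (hk : Inv u k)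
    (hl : ∀ l ∈ ls, l < C.n) (h : walk f C.n F t fin mv c k ls = true) :
    ∃ c' u' k' ls', Inv u' k' ∧ (∀ l ∈ ls', l < C.n) ∧ S.app ls (S.ρ u (S.p c)) = S.app ls' (S.ρ u' (S.p c')) ∧
      fin c' k' ls' = true := by
  induction mv generalizing c u k ls with
  | nil => exact ⟨c, u, k, ls, hk, hl, rfl, h⟩
  | cons m mv ih =>
    have e : walk f C.n F t fin (m :: mv) c k ls = force (Nat.shiftRight m 1) fun q => band (Nat.blt q t)
      (Fact.rec (motive := fun _ => Bool) (fun i a j h => Bool.rec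
        (band (Nat.beq i c) (Bool.rec
          (List.rec (motive := fun _ => Bool) false
            (fun l ls' _ => band (Nat.beq (k l) a) (walk f C.n F t fin mv j (nx f k h) ls')) ls)
          (walk f C.n F t fin mv j (nx f k h) ls) (Nat.ble C.n a)))
        (band (band (Nat.beq j c) (Nat.ble C.n a)) (walk f C.n F t fin mv i (nx f k (winv h)) ls))
        (Nat.beq (Nat.land m 1) 1)) (fget F q)) := rfl
    rw [e, force_eq, band_iff] at h
    have h1 := hF _ (by simpa [Nat.blt_eq] using h.1)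
    have h2 := h.2
    generalize fget F (Nat.shiftRight m 1) = x at h1 h2
    obtain ⟨i, a, j, v⟩ := x
    simp only [Holds] at h1
    cases hb : Nat.beq (Nat.land m 1) 1 <;> simp only [hb, band_iff] at h2
    · obtain ⟨h3, h2⟩ := h2
      obtain rfl := Nat.eq_of_beq_eq_true h3
      cases ha : Nat.ble C.n a <;> simp only [ha] at h2
      · cases ls with
        | nil => exact absurd h2 (by simp)
        | cons l ls =>
          obtain ⟨h4, h5⟩ := band_iff.1 h2
          obtain ⟨c', u', k', ls', a1, a2, a3, a4⟩ := ih (S.inv_nx hf hk v) (fun l h => hl l (by simp [h])) h5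
          refine ⟨c', u', k', ls', a1, a2, Eq.trans ?_ a3, a4⟩
          show S.app ls (S.m l _) = _
          rw [S.m_inv hk (hl l (by simp)), Nat.eq_of_beq_eq_true h4, h1, map_mul, Perm.mul_apply]
      · obtain ⟨c', u', k', ls', a1, a2, a3, a4⟩ := ih (S.inv_nx hf hk v) hl h2
        refine ⟨c', u', k', ls', a1, a2, Eq.trans ?_ a3, a4⟩
        rw [S.m_ge (Nat.le_of_ble_eq_true ha)] at h1
        rw [h1, map_mul, Perm.mul_apply]
    · obtain ⟨⟨h3, ha⟩, h2⟩ := h2
      obtain rfl := Nat.eq_of_beq_eq_true h3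
      obtain ⟨c', u', k', ls', a1, a2, a3, a4⟩ := ih (S.inv_nx hf hk (winv v)) hl h2
      refine ⟨c', u', k', ls', a1, a2, Eq.trans ?_ a3, a4⟩
      rw [S.m_ge (Nat.le_of_ble_eq_true ha)] at h1
      rw [h1, w_winv]; simp

theorem chk_sound (hf : Good C f) {B : List ℕ} (hB : IsBase H B) {F : List (List Fact)} {t : ℕ}
    (hF : ∀ q < t, S.Holds (fget F q)) {e : Fact} {R : List ℕ × Word} (hl : ∀ l ∈ R.1, l < C.n) {u : Word} {mv : List ℕ}
    (h : chk f C.n B F t e R u mv = true) :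
    ∃ u', S.app R.1 (S.ρ (S.w u) (S.p e.j)) = S.ρ u' (S.m e.a (S.p e.i)) ∧ u' * S.w e.h = S.w R.2 * S.w u := by
  obtain ⟨c, u', k, ls, a1, a2, a3, a4⟩ := walk_sound hf hF mv (S.inv_ipt hf u) hl h
  simp only [band_iff, lall_iff] at a4
  obtain ⟨h1, h2, h3⟩ := a4
  obtain rfl := Nat.eq_of_beq_eq_true h1
  refine ⟨u', a3.trans ?_, ?_⟩
  · cases ls with
    | nil => rw [S.m_ge (Nat.le_of_ble_eq_true h2)]; rfl
    | cons l ls =>
      obtain ⟨h4, h5⟩ := band_iff.1 h2
      cases ls with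
      | nil => rw [← Nat.eq_of_beq_eq_true h5, ← S.m_inv a1 (a2 l (by simp))]; rfl
      | cons _ _ => exact absurd h4 (by simp [isNil])
  · rw [← mul_inv_eq_one]
    refine Subtype.ext (hB _ (Subtype.prop _) fun i hi => ?_)
    have := Nat.eq_of_beq_eq_true (h3 i hi).2
    rw [S.inv_nx hf a1, S.inv_nx hf (S.inv_ipt hf _)] at this
    rw [Subgroup.coe_mul, Subgroup.coe_inv, Perm.mul_apply, ← Fin.ext this]; simp

theorem verify (hf : Good C f) {B : List ℕ} (hB : IsBase H B) {F : List (List Fact)} {t : ℕ}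
    (hF : ∀ q < t, S.Holds (fget F q)) {i : ℕ} {R : List ℕ × Word} (hl : ∀ l ∈ R.1, l < C.n) {u : Word} {mv : List ℕ}
    (h : chk f C.n B F t ⟨i, C.n, i, []⟩ R u mv = true) :
    S.app R.1 (S.ρ (S.w u) (S.p i)) = S.ρ (S.w R.2) (S.ρ (S.w u) (S.p i)) := by
  obtain ⟨u', h1, h2⟩ := chk_sound hf hB hF hl h
  rw [w_nil, mul_one] at h2
  rw [h1, S.m_ge le_rfl, h2, map_mul, Perm.mul_apply]

end Sys

/-- definitions of the points and stabiliser of the base point -/
noncomputable def ax (n : ℕ) (ws : List (List ℕ)) (e : Fact) : Bool :=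
  (Nat.beq e.i 0 && Nat.beq e.j 0 && Nat.ble n e.a) || (isNil e.h && decide (nth ws [] e.j = e.a :: nth ws [] e.i))

noncomputable def allD (f : ℕ → ℕ → ℕ) (n : ℕ) (B : List ℕ) (F : List (List Fact)) (ws : List (List ℕ))
    (RL : List (List ℕ × Word)) (D : List (ℕ × Word × List ℕ)) : ℕ → Bool :=
  List.rec (motive := fun _ => ℕ → Bool) (fun _ => true) (fun d _ ih t => band
    (Bool.rec (chk f n B F t (fget F t) (nth RL ([], []) d.1) d.2.1 d.2.2) true (ax n ws (fget F t)))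
    (force (Nat.succ t) ih)) D

theorem allD_sound {S : Sys C H X} (hf : Good C f) {B : List ℕ} (hB : IsBase H B) {F : List (List Fact)}
    {ws : List (List ℕ)} (h0 : ∀ h, S.ρ h (S.p 0) = S.p 0) (hp : ∀ j, S.p j = (nth ws [] j).foldr S.m (S.p 0))
    {RL : List (List ℕ × Word)} (hR : ∀ R ∈ RL, (∀ l ∈ R.1, l < C.n) ∧ S.Rel R) {D : List (ℕ × Word × List ℕ)} {t : ℕ}
    (hF : ∀ q < t, S.Holds (fget F q)) (h : allD f C.n B F ws RL D t = true) : ∀ q < t + D.length, S.Holds (fget F q) := by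
  induction D generalizing t with
  | nil => exact hF
  | cons d D ih =>
    obtain ⟨h1, h2⟩ := band_iff.1 (show band (Bool.rec (chk f C.n B F t (fget F t) (nth RL ([], []) d.1) d.2.1 d.2.2) true
      (ax C.n ws (fget F t))) (force (Nat.succ t) (allD f C.n B F ws RL D)) = true from h)
    rw [force_eq] at h2
    rw [List.length_cons, ← Nat.add_assoc, Nat.add_right_comm]
    refine ih (fun q hq => (Nat.lt_succ_iff_lt_or_eq.1 hq).elim (hF q) ?_) h2
    rintro rfl
    cases ha : ax C.n ws (fget F q) <;> rw [ha] at h1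
    · have : (∀ l ∈ (nth RL ([], []) d.1).1, l < C.n) ∧ S.Rel (nth RL ([], []) d.1) := by
        rcases nth_mem_or RL ([], []) d.1 with h | h
        · exact hR _ h
        · rw [h]; exact ⟨by simp, fun _ => by simp [Sys.app, Sys.w_nil]⟩
      obtain ⟨u', h3, h4⟩ := Sys.chk_sound hf hB hF this.1 h1
      rw [this.2, ← Perm.mul_apply, ← map_mul, ← h4, map_mul, Perm.mul_apply] at h3
      exact ((S.ρ u').injective h3).symm
    · simp only [ax, Bool.or_eq_true, Bool.and_eq_true, decide_eq_true_eq, Nat.beq_eq, Nat.ble_eq] at ha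
      unfold Sys.Holds
      rcases ha with ⟨⟨a1, a2⟩, a3⟩ | ⟨a1, a2⟩
      · rw [a1, a2, h0, S.m_ge a3]
      · have : S.w (fget F q).h = 1 := Subtype.ext (ev_of_isNil a1)
        rw [this, hp (fget F q).j, a2, hp (fget F q).i]; simp

/-- a homomorphism from a model reaching the bound -/
theorem hom_of_bound {rels gens : List Word} {N : ℕ} (h : Bound.{u} rels gens N) {Q : Type} [Group Q] {q : ℕ → Q}
    (hq : ∀ r ∈ rels, ev q r = 1) (hN : N ≤ Nat.card (grp q gens)) {P : Type u} [Group P] {g : ℕ → P}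
    (hr : ∀ r ∈ rels, ev g r = 1) : ∃ φ : grp q gens →* P, ∀ v, φ ⟨_, subst_mem_grp q gens v⟩ = ev g (subst gens v) := by
  have e1 : ∀ w, (MonoidHom.fst P Q) (ev (fun i => (g i, q i)) w) = ev g w := fun w => map_ev _ _ _
  have e2 : ∀ w, (MonoidHom.snd P Q) (ev (fun i => (g i, q i)) w) = ev q w := fun w => map_ev _ _ _
  obtain ⟨h1, h2⟩ := h (P × Q) (fun i => (g i, q i)) fun r h1 =>
    Prod.ext ((e1 r).trans (hr r h1)) ((e2 r).trans (hq r h1))
  obtain ⟨e, he⟩ := CPres.equiv_of_inj (MonoidHom.snd P Q) (B' := grp q gens)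
    (fun x hx => inj_of_card (MonoidHom.snd P Q) (h2.trans (by rw [map_grp]; exact hN)) hx) le_rfl (map_grp _ _ _)
  refine ⟨((MonoidHom.fst P Q).comp (Subgroup.subtype _)).comp e.symm.toMonoidHom, fun v => ?_⟩
  have : (⟨_, subst_mem_grp q gens v⟩ : grp q gens) = e ⟨_, subst_mem_grp _ gens v⟩ := Subtype.ext ((he _).trans (e2 _)).symm
  rw [this, ← e1]; simp

end CA.DCos
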