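import Cfsg.Agent.Lib.Comp.DCos

/-! Complete double coset tables: the upper bound and the permutation model. -/

set_option autoImplicit false

namespace CA.DCos
open Equiv CA.CNet CA.CWord CA.CLevel CA.CSimple CA.CPoint CA.CTodd

universe u
variable {C : Ctx} {H : Subgroup (Perm (Fin C.n))} {X : Type u} {f : ℕ → ℕ → ℕ}

structure ER where
  e : ℕ
  sched : List ℕ
  ls : List (Word × Word)
  ch : Chain

noncomputable def ER.O (C : Ctx) (F : List (List Fact)) (gw : List Word) (r : ER) : ℕ :=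
  C.clo gw r.sched (bit (fget F r.e).a)

noncomputable def uni (C : Ctx) (F : List (List Fact)) (gw : List Word) (es : List ER) : ℕ :=
  List.rec (motive := fun _ => ℕ) 0 (fun r _ ih => Nat.lor (r.O C F gw) ih) es

theorem uni_spec {F : List (List Fact)} {gw : List Word} {es : List ER} {i : ℕ} (h : (uni C F gw es).testBit i = true) :
    ∃ r ∈ es, (r.O C F gw).testBit i = true := by
  induction es with
  | nil => exact absurd h (by simp [uni])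
  | cons r es ih =>
    have : (r.O C F gw ||| uni C F gw es).testBit i = true := h
    rw [Nat.testBit_or, Bool.or_eq_true] at this
    rcases this with h | h
    · exact ⟨r, by simp, h⟩
    · obtain ⟨r', h1, h2⟩ := ih h; exact ⟨r', by simp [h1], h2⟩

noncomputable def erOK (C : Ctx) (f : ℕ → ℕ → ℕ) (B : List ℕ) (F : List (List Fact)) (T J : ℕ) (GW : List (List Word))
    (N i : ℕ) (es : List ER) (r : ER) : Bool :=
  band (Nat.blt r.e T && Nat.beq (fget F r.e).i i && Nat.blt (fget F r.e).a C.n && Nat.blt (fget F r.e).j J)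
  (band (band (C.inv (nth GW [] i) (r.O C F (nth GW [] i)))
    (lall es fun r' => Nat.beq r'.e r.e || !tb (r.O C F (nth GW [] i)) (fget F r'.e).a))
  (band (Nat.ble N (Nat.mul (cnt C.n (r.O C F (nth GW [] i))) (lowB C r.ch (lmap (fun p => subst (nth GW [] i) p.1) r.ls))))
    (lall r.ls fun p => band (mapsP C f (subst (nth GW [] i) p.1) (fget F r.e).a (fget F r.e).a)
      (eqQ f B (lapp (subst (nth GW [] i) p.1) (fget F r.e).h,
        lapp (fget F r.e).h (subst (nth GW [] (fget F r.e).j) p.2))))))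

structure Tab (C : Ctx) (J : ℕ) (Sg : ℕ → Subgroup (Perm (Fin C.n))) (E : Fact → Prop) : Prop where
  lt : ∀ e, E e → e.i < J ∧ e.a < C.n ∧ e.j < J
  cov : ∀ i < J, ∀ a : Fin C.n, ∃ e, E e ∧ e.i = i ∧ ∃ s ∈ Sg i, ∃ b : Fin C.n, (b : ℕ) = e.a ∧ s b = a
  uniq : ∀ e e', E e → E e' → e'.i = e.i → ∀ s ∈ Sg e.i, ∀ b : Fin C.n, (b : ℕ) = e.a → (s b : ℕ) = e'.a →
    e' = e ∧ (C.ev e.h)⁻¹ * s * C.ev e.h ∈ Sg e.j

def Ed (F : List (List Fact)) (J : ℕ) (ES : List (List ER)) (e : Fact) : Prop :=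
  ∃ i < J, ∃ r ∈ nth ES [] i, e = fget F r.e

theorem tab_of (hC : C.ok = true) (hf : Good C f) (hH : ∀ w, C.ev w ∈ H) {B : List ℕ} (hB : IsBase H B)
    {F : List (List Fact)} {T J : ℕ} {GW : List (List Word)} {N : ℕ → ℕ} {ES : List (List ER)}
    (hN : ∀ i < J, Nat.card (C.grp (nth GW [] i)) ≤ N i)
    (h1 : ∀ i < J, sub (full C.n) (uni C F (nth GW [] i) (nth ES [] i)) = true)
    (h2 : ∀ i < J, lall (nth ES [] i) (erOK C f B F T J GW (N i) i (nth ES [] i)) = true) :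
    Tab C J (fun i => C.grp (nth GW [] i)) (Ed F J ES) ∧ ∀ e, Ed F J ES e → ∃ q < T, e = fget F q := by
  simp only [lall_iff, erOK, band_iff, Bool.and_eq_true, Nat.blt_eq, Nat.beq_eq, Bool.or_eq_true, Bool.not_eq_true',
    tb_eq, Nat.ble_eq] at h2
  refine ⟨⟨?_, fun i hi a => ?_, ?_⟩, ?_⟩
  · rintro e ⟨i, hi, r, hr, rfl⟩
    obtain ⟨⟨⟨⟨-, a1⟩, a2⟩, a3⟩, -⟩ := h2 i hi r hr
    exact ⟨a1 ▸ hi, a2, a3⟩
  · obtain ⟨r, hr, h⟩ := uni_spec (sub_spec (h1 i hi) (i := a) (by simp [testBit_full]))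
    obtain ⟨⟨⟨⟨-, a1⟩, a2⟩, a3⟩, -⟩ := h2 i hi r hr
    obtain ⟨s, hs, h⟩ := clo_bit hC _ _ ⟨_, a2⟩ a h
    exact ⟨_, ⟨i, hi, r, hr, rfl⟩, a1, s, hs, _, rfl, h⟩
  · rintro e e' ⟨i, hi, r, hr, rfl⟩ ⟨i', hi', r', hr', rfl⟩ he s hs b hb hb'
    obtain ⟨⟨⟨⟨-, a1⟩, a2⟩, a3⟩, ⟨a4, a5⟩, a6, a7⟩ := h2 i hi r hr
    obtain rfl : i' = i := (h2 i' hi' r' hr').1.1.1.2.symm.trans (he.trans a1)
    rw [a1] at hs
    have h0 : (r.O C F (nth GW [] i')).testBit b = true := clo_mono _ _ _ _ (by simp [testBit_bit, hb])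
    have h3 : r'.e = r.e := (a5 r' hr').resolve_right (by rw [← hb', Ctx.inv_spec hC a4 hs, h0]; simp)
    refine ⟨by rw [h3], ?_⟩
    have h4 := stab_of_card (A := C.grp (nth GW [] i')) (H := C.grp (lmap (fun p => subst (nth GW [] i') p.1) r.ls)) (ω := b)
      (by
        rw [grp_le_iff, lmap_eq]; intro w hw
        obtain ⟨p, -, rfl⟩ := List.mem_map.1 hw; exact subst_mem_grp _ _ _)
      (CLow.fix_of_mapsP hf (by
        rw [lall_iff, lmap_eq]; intro w hw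
        obtain ⟨p, hp, rfl⟩ := List.mem_map.1 hw; exact hb ▸ (a7 p hp).1))
      (cnt_le_orbit hC fun i hi => clo_bit hC _ r.sched b i (hb ▸ hi))
      ((hN _ hi).trans (a6.trans (Nat.mul_le_mul_left _ (lowB_le hC _ _))))
    have h5 : s ∈ C.grp (lmap (fun p => subst (nth GW [] i') p.1) r.ls) :=
      h4 ▸ ⟨hs, Fin.ext (hb'.trans (by rw [h3, hb]))⟩
    refine (?_ : _ ≤ Subgroup.comap (MulAut.conj (C.ev (fget F r.e).h)⁻¹).toMonoidHom _).trans_eq' rfl h5 |> fun h => by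
      simpa using h
    rw [grp_le_iff, lmap_eq]; intro w hw
    obtain ⟨p, hp, rfl⟩ := List.mem_map.1 hw
    have := eq_of_eqQ hf hB (hH _) (hH _) (a7 p hp).2
    simp only [Ctx.ev, ev_lapp] at this
    simpa [mul_assoc, this] using subst_mem_grp C.g _ p.2
  · rintro e ⟨i, hi, r, hr, rfl⟩
    exact ⟨_, (h2 i hi r hr).1.1.1.1, rfl⟩

variable {J : ℕ} {Sg : ℕ → Subgroup (Perm (Fin C.n))} {E : Fact → Prop}

abbrev XM (H : Subgroup (Perm (Fin C.n))) (J : ℕ) (Sg : ℕ → Subgroup (Perm (Fin C.n))) : Type :=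
  Σ i : Fin (J + 1), H ⧸ (Sg i).subgroupOf H

theorem Tab.closed (T : Tab C J Sg E) (S : Sys C H X) (hle : ∀ i, Sg i ≤ H) (hE : ∀ e, E e → S.Holds e)
    (hS : ∀ i < J, ∀ s : H, s.1 ∈ Sg i → S.ρ s (S.p i) = S.p i) {i : ℕ} (hi : i < J) (g : H) (a : Fin C.n) :
    ∃ j < J, ∃ g', S.μ a (S.ρ g (S.p i)) = S.ρ g' (S.p j) := by
  obtain ⟨e, he, rfl, s, hs, b, hb, h⟩ := T.cov i hi (g.1⁻¹ a)
  refine ⟨_, (T.lt e he).2.2, g * ⟨s, hle _ hs⟩ * S.w e.h, ?_⟩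
  have := hE e he
  rw [Sys.Holds, ← hb, S.m_fin] at this
  rw [map_mul, Perm.mul_apply, ← this, ← S.eqv, map_mul, Perm.mul_apply, hS _ hi ⟨s, hle _ hs⟩ hs]
  simp [h]

theorem card_le (S : Sys C H X) (hS : ∀ i < J + 1, ∀ s : H, s.1 ∈ Sg i → S.ρ s (S.p i) = S.p i)
    (h : ∀ ξ, ∃ i < J + 1, ∃ g, ξ = S.ρ g (S.p i)) : Finite X ∧ Nat.card X ≤ Nat.card (XM H J Sg) := by
  have : Function.Surjective fun x : XM H J Sg => S.ρ x.2.out (S.p x.1) := fun ξ => by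
    obtain ⟨i, hi, g, rfl⟩ := h ξ
    obtain ⟨s, hs⟩ := QuotientGroup.mk_out_eq_mul ((Sg i).subgroupOf H) g
    exact ⟨⟨⟨i, hi⟩, g⟩, by simp only [hs, map_mul, Perm.mul_apply, hS i hi s s.2]⟩
  exact ⟨.of_surjective _ this, Nat.card_le_card_of_surjective _ this⟩

def pM (H : Subgroup (Perm (Fin C.n))) (J : ℕ) (Sg : ℕ → Subgroup (Perm (Fin C.n))) (i : ℕ) : XM H J Sg :=
  ⟨Fin.ofNat _ i, (1 : H)⟩

theorem pM_fin (i : Fin (J + 1)) (g : H) : g • pM H J Sg i = ⟨i, g⟩ := by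
  obtain ⟨i, hi⟩ := i
  have : Fin.ofNat (J + 1) i = ⟨i, hi⟩ := Fin.ext (Nat.mod_eq_of_lt hi)
  unfold pM; rw [this]; simp

theorem pM_surj (ξ : XM H J Sg) : ∃ i < J + 1, ∃ g : H, ξ = g • pM H J Sg i := by
  obtain ⟨i, q⟩ := ξ
  obtain ⟨g, rfl⟩ := QuotientGroup.mk_surjective q
  exact ⟨i, i.2, g, (pM_fin i g).symm⟩

theorem pM_eq {i j : ℕ} (hi : i < J + 1) (hj : j < J + 1) {g g' : H} :
    g • pM H J Sg i = g' • pM H J Sg j ↔ j = i ∧ (g⁻¹ * g').1 ∈ Sg i := by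
  rw [pM_fin ⟨i, hi⟩, pM_fin ⟨j, hj⟩]
  constructor
  · intro h
    obtain rfl : i = j := congrArg (fun x => (x.1 : ℕ)) h
    have := sigma_mk_injective (β := fun i : Fin (J + 1) => H ⧸ (Sg i).subgroupOf H) (i := ⟨i, hi⟩) h
    exact ⟨rfl, Subgroup.mem_subgroupOf.1 (QuotientGroup.eq.1 this)⟩
  · rintro ⟨rfl, h⟩
    exact congrArg _ (QuotientGroup.eq.2 h)

theorem Tab.model (T : Tab C (J + 1) Sg E) (hH : ∀ w, C.ev w ∈ H) (hle : ∀ i, Sg i ≤ H) :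
    ∃ S : Sys C H (XM H J Sg), S.ρ = MulAction.toPermHom H _ ∧ S.p = pM H J Sg ∧ ∀ e, E e → S.Holds e := by
  let R : Fin C.n → XM H J Sg → XM H J Sg → Prop := fun a ξ η => ∃ e, E e ∧ ∃ g : H, ∃ b : Fin C.n, (b : ℕ) = e.a ∧
    a = g.1 b ∧ ξ = g • pM H J Sg e.i ∧ η = (g * ⟨_, hH e.h⟩) • pM H J Sg e.j
  have h1 : ∀ a ξ, ∃ η, R a ξ η := fun a ξ => by
    obtain ⟨i, hi, g, rfl⟩ := pM_surj ξ
    obtain ⟨e, he, rfl, s, hs, b, hb, h⟩ := T.cov i hi (g.1⁻¹ a)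
    exact ⟨_, e, he, g * ⟨s, hle _ hs⟩, b, hb, by simp [h], (pM_eq hi hi).2 ⟨rfl, by simpa using hs⟩, rfl⟩
  have h2 : ∀ a ξ η η', R a ξ η → R a ξ η' → η = η' := by
    rintro _ _ _ _ ⟨e, he, g, b, hb, rfl, rfl, rfl⟩ ⟨e', he', g', b', hb', a1, a2, rfl⟩
    obtain ⟨a3, a4⟩ := (pM_eq (T.lt e' he').1 (T.lt e he).1).1 a2.symm
    obtain ⟨rfl, a5⟩ := T.uniq e' e he' he a3 _ (inv_mem a4) b' hb' (by simp [← a1, hb]) |> fun h => h
    refine (pM_eq (T.lt e he).2.2 (T.lt e he).2.2).2 ⟨rfl, ?_⟩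
    simpa [mul_assoc] using a5
  choose μ hμ using h1
  refine ⟨⟨MulAction.toPermHom H _, μ, pM H J Sg, fun h a ξ => h2 _ _ _ _ (hμ _ _) ?_, hH⟩, rfl, rfl, fun e he => ?_⟩
  · obtain ⟨e, he, g, b, hb, a1, a2, a3⟩ := hμ a ξ
    exact ⟨e, he, h * g, b, hb, by simp [a1], by simp [a2, mul_smul], by simp [a3, mul_smul]⟩
  · unfold Sys.Holds Sys.m
    rw [dif_pos (T.lt e he).2.1]
    exact h2 _ _ _ _ (hμ _ _) ⟨e, he, 1, ⟨_, (T.lt e he).2.1⟩, rfl, rfl, by simp, by simp [Sys.w]⟩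

theorem Sys.app_eqv (S : Sys C H X) (κ : H) {ls : List ℕ} (h : ∀ l : Fin C.n, (l : ℕ) ∈ ls → κ.1 l = l) (ξ : X) :
    S.app ls (S.ρ κ ξ) = S.ρ κ (S.app ls ξ) := by
  induction ls generalizing ξ with
  | nil => rfl
  | cons l ls ih =>
    refine Eq.trans (congrArg (S.app ls) ?_) (ih (fun l hl => h l (by simp [hl])) (S.m l ξ))
    show S.m l _ = _
    by_cases hl : l < C.n
    · rw [show l = (⟨l, hl⟩ : Fin C.n) from rfl, S.m_fin, S.m_fin, ← S.eqv, h _ (by simp)]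
    · rw [S.m_ge (Nat.not_lt.1 hl), S.m_ge (Nat.not_lt.1 hl)]

/-- a relator holds everywhere if it holds on orbit representatives -/
theorem Tab.rel (T : Tab C J Sg E) (S : Sys C H X) (hle : ∀ i, Sg i ≤ H)
    (hS : ∀ i < J, ∀ s : H, s.1 ∈ Sg i → S.ρ s (S.p i) = S.p i) (hX : ∀ ξ, ∃ i < J, ∃ g, ξ = S.ρ g (S.p i))
    {R : List ℕ × Word} {a₀ : Fin C.n} {tv : List Word}
    (h1 : ∀ g : H, g.1 a₀ = a₀ → ∃ v ∈ tv, ∃ κ : H, g = κ * S.w v ∧ (∀ l : Fin C.n, (l : ℕ) ∈ R.1 → κ.1 l = l) ∧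
      κ * S.w R.2 = S.w R.2 * κ)
    (h2 : ∀ e, E e → ∃ u, ((C.ev u)⁻¹ a₀ : ℕ) = e.a ∧ ∀ v ∈ tv, S.app R.1 (S.ρ (S.w (lapp v u)) (S.p e.i)) =
      S.ρ (S.w R.2) (S.ρ (S.w (lapp v u)) (S.p e.i))) : S.Rel R := fun ξ => by
  obtain ⟨i, hi, g, rfl⟩ := hX ξ
  obtain ⟨e, he, rfl, s, hs, b, hb, h⟩ := T.cov i hi (g.1⁻¹ a₀)
  obtain ⟨u, h3, h4⟩ := h2 e he
  obtain ⟨v, hv, κ, a1, a2, a3⟩ := h1 (g * ⟨s, hle _ hs⟩ * (S.w u)⁻¹) (by
    have : (C.ev u)⁻¹ a₀ = b := Fin.ext (h3.trans hb.symm)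
    show g.1 (s ((C.ev u)⁻¹ a₀)) = a₀
    rw [this, h]; simp)
  have : S.ρ g (S.p e.i) = S.ρ κ (S.ρ (S.w (lapp v u)) (S.p e.i)) := by
    rw [← hS _ hi ⟨s, hle _ hs⟩ hs, ← Perm.mul_apply, ← Perm.mul_apply, ← map_mul, ← map_mul, S.w_lapp, ← mul_assoc, ← a1,
      inv_mul_cancel_right, hS _ hi ⟨s, hle _ hs⟩ hs]
  rw [this, S.app_eqv κ a2, h4 v hv, ← Perm.mul_apply, ← map_mul, a3, map_mul, Perm.mul_apply]

noncomputable def zipAll {α β : Type} (p : α → β → Bool) (l : List α) : List β → Bool :=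
  List.rec (motive := fun _ => List β → Bool) (fun _ => true)
    (fun a _ ih m => List.rec (motive := fun _ => Bool) false (fun b m' _ => band (p a b) (ih m')) m) l

theorem zipAll_spec {α β : Type} {p : α → β → Bool} {l : List α} {m : List β} (h : zipAll p l m = true) :
    ∀ a ∈ l, ∃ b, p a b = true := by
  induction l generalizing m with
  | nil => simp
  | cons a l ih =>
    cases m with
    | nil => exact absurd h (by simp [zipAll])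
    | cons b m =>
      obtain ⟨h1, h2⟩ := band_iff.1 (show band (p a b) (zipAll p l m) = true from h)
      exact List.forall_mem_cons.2 ⟨⟨b, h1⟩, ih h2⟩

noncomputable def relOK (f : ℕ → ℕ → ℕ) (n : ℕ) (B : List ℕ) (F : List (List Fact)) (T : ℕ) (R : List ℕ × Word) (a₀ : ℕ)
    (tv : List Word) (d : ℕ × Word × List (List ℕ)) : Bool :=
  band (Nat.beq (ipt f d.2.1 a₀) (fget F d.1).a) (force (fget F d.1).i fun i =>
    zipAll (fun v mv => chk f n B F T ⟨i, n, i, []⟩ R (lapp v d.2.1) mv) tv d.2.2)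

theorem rel_h2 {S : Sys C H X} (hf : Good C f) {B : List ℕ} (hB : IsBase H B) {F : List (List Fact)} {T : ℕ}
    (hF : ∀ q < T, S.Holds (fget F q)) {R : List ℕ × Word} (hl : ∀ l ∈ R.1, l < C.n) {a₀ : Fin C.n} {tv : List Word}
    {D : List (ℕ × Word × List (List ℕ))} (h : lall D (relOK f C.n B F T R a₀ tv) = true) {ES : List (List ER)}
    (hD : ∀ i < J, ∀ r ∈ nth ES [] i, r.e ∈ lmap Prod.fst D) (e : Fact) (he : Ed F J ES e) :
    ∃ u, ((C.ev u)⁻¹ a₀ : ℕ) = e.a ∧ ∀ v ∈ tv, S.app R.1 (S.ρ (S.w (lapp v u)) (S.p e.i)) =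
      S.ρ (S.w R.2) (S.ρ (S.w (lapp v u)) (S.p e.i)) := by
  obtain ⟨i, hi, r, hr, rfl⟩ := he
  have := hD i hi r hr
  rw [lmap_eq] at this
  obtain ⟨d, hd, e⟩ := List.mem_map.1 this
  obtain ⟨h1, h2⟩ := band_iff.1 (lall_iff.1 h d hd)
  rw [force_eq, e] at h2
  refine ⟨d.2.1, by rw [← ipt_eq hf, ← e]; exact Nat.eq_of_beq_eq_true h1, fun v hv => ?_⟩
  obtain ⟨mv, h⟩ := zipAll_spec h2 v hv
  exact Sys.verify hf hB hF hl h

noncomputable def msk (f : ℕ → ℕ → ℕ) (p : ℕ) (tv : List Word) : ℕ :=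
  List.rec (motive := fun _ => ℕ) 0 (fun v _ ih => Nat.lor (bit (ipt f v p)) ih) tv

theorem msk_spec {p : ℕ} {tv : List Word} {i : ℕ} (h : (msk f p tv).testBit i = true) : ∃ v ∈ tv, ipt f v p = i := by
  induction tv with
  | nil => exact absurd h (by simp [msk])
  | cons r es ih =>
    have : (bit (ipt f r p) ||| msk f p es).testBit i = true := h
    rw [Nat.testBit_or, Bool.or_eq_true, testBit_bit] at this
    rcases this with h | h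
    · exact ⟨r, by simp, by simpa using h⟩
    · obtain ⟨r', h1, h2⟩ := ih h; exact ⟨r', by simp [h1], h2⟩

/-- the symmetric generators in a group -/
theorem exists_tau {P : Type u} [Group P] (φ : H →* P) (t : P) (a₀ : Fin C.n) (h1 : ∀ a, ∃ g ∈ H, g a₀ = a)
    (h2 : ∀ g : H, g.1 a₀ = a₀ → φ g * t = t * φ g) : ∃ τ : Fin C.n → P, ∀ g : H, τ (g.1 a₀) = φ g * t * (φ g)⁻¹ := by
  choose s hs hs' using h1
  refine ⟨fun a => φ ⟨s a, hs a⟩ * t * (φ ⟨s a, hs a⟩)⁻¹, fun g => ?_⟩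
  have := h2 (g⁻¹ * ⟨s (g.1 a₀), hs _⟩) (by simp [hs'])
  rw [map_mul, map_inv] at this
  simp only []
  rw [mul_inv_eq_iff_eq_mul, mul_assoc, mul_assoc, ← this]; group

end CA.DCos
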