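import Cfsg.Agent.Lib.Comp.GOut
import Cfsg.Agent.Lib.Comp.CBlk

/-! Restriction of a permutation group to an invariant initial segment of the points. -/

set_option autoImplicit false
set_option linter.unusedVariables false

namespace CA.GRes
open Equiv CA.CNet CA.CWord CA.CLevel CA.H27Pres CA.CLink CA.GOut

noncomputable def resOK (C C' : Ctx) (i : ℕ) : Bool :=
  band (sub (full C'.n) (C.pull [Nat.mul 2 i] (full C'.n)))
    (allN C'.k fun j => force (Nat.land (sl C' j) (full C'.n)) fun s =>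
      Nat.beq (Nat.land (C.pull [Nat.mul 2 i] s) (full C'.n)) (Nat.land (C'.pull [Nat.mul 2 i] s) (full C'.n)))

def RR {n n' : ℕ} (hn : n' ≤ n) : Subgroup (Perm (Fin n) × Perm (Fin n')) where
  carrier := {x | ∀ j, x.1 (Fin.castLE hn j) = Fin.castLE hn (x.2 j)}
  one_mem' _ := rfl
  mul_mem' {x y} hx hy j := (congrArg x.1 (hy j)).trans (hx _)
  inv_mem' {x} hx j := by
    have := hx (x.2⁻¹ j)
    simp only [Perm.coe_inv, Equiv.apply_symm_apply] at this
    exact (Perm.inv_eq_iff_eq.2 this.symm :)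

variable {C C' : Ctx}

theorem res_of (h : C.ok = true) (h' : C'.ok = true) (hn : C'.n ≤ C.n) {i : ℕ} (hr : resOK C C' i = true) :
    (C.g i, C'.g i) ∈ RR hn := fun j => by
  obtain ⟨h1, h2⟩ := band_iff.1 hr
  have ev1 : ∀ (C : Ctx), C.ev [Nat.mul 2 i] = C.g i := fun C => ev_gen _ i
  have h3 := sub_spec h1 (i := Fin.castLE hn j) (by simp [testBit_full])
  rw [Ctx.testBit_pull h, ev1, testBit_full, decide_eq_true_eq] at h3
  refine Fin.ext (Nat.eq_of_testBit_eq fun b => ?_)
  show (C.g i (Fin.castLE hn j) : ℕ).testBit b = (C'.g i j : ℕ).testBit b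
  by_cases hb : b < C'.k
  · have h4 := allN_spec h2 b hb
    rw [force_eq] at h4
    have h5 := congrArg (fun x => x.testBit j) (Nat.eq_of_beq_eq_true h4)
    simp only [Nat.land_eq, Nat.testBit_and, testBit_full, Fin.is_lt, decide_true, Bool.and_true] at h5
    rw [Ctx.testBit_pull h' _ _ j, show (j : ℕ) = Fin.castLE hn j from rfl, Ctx.testBit_pull h, ev1, ev1] at h5
    simp only [Nat.testBit_and, testBit_full, Fin.is_lt, h3, decide_true, Bool.and_true, testBit_sl h'] at h5
    rw [← h5]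
    exact (testBit_sl h' b ⟨_, h3⟩).symm
  · have hw : 2 ^ C'.k ≤ 2 ^ b := Nat.pow_le_pow_right (by norm_num) (by omega)
    have := Ctx.ok_le h'
    rw [Nat.testBit_lt_two_pow (by omega), Nat.testBit_lt_two_pow (by omega)]

theorem res_equiv (h : C.ok = true) (h' : C'.ok = true) (hn : C'.n ≤ C.n) {m : ℕ} (hr : allN m (resOK C C') = true)
    {gs : List Word} (hg : lall gs (wlt (2 * m)) = true) (hs : IsSimpleGroup (C.grp gs)) {w : Word} (hw : w ∈ gs)
    (h1 : C'.ev w ≠ 1) : Nonempty (C.grp gs ≃* C'.grp gs) := by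
  obtain ⟨φ, h2, -⟩ := hom_of_graph' (R := RR hn) (γ := fun i => C.ev (nth gs [] i)) (π := C'.g) (gens := gs)
    (fun i => by
      rcases nth_mem_or gs [] i with e | e
      · have := ev_mem_of_lt (g := fun i => (C.g i, C'.g i)) (fun i hi => res_of h h' hn (allN_spec hr i hi))
          (wlt_spec (lall_iff.1 hg _ e))
        rwa [ev_prod] at this
      · rw [e]; exact one_mem _)
    (CBlk.grp_eq_range _ _) fun σ _ hσ => Equiv.ext fun j => Fin.castLE_injective hn (hσ j).symm
  have hi : Function.Injective φ := (MonoidHom.ker_eq_bot_iff φ).1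
    ((hs.eq_bot_or_eq_top_of_normal _ inferInstance).resolve_right fun e => h1 (by
      obtain ⟨x, hx⟩ := h2.ge (mem_grp _ hw)
      exact hx.symm.trans (e.ge (Subgroup.mem_top x))))
  exact ⟨(MonoidHom.ofInjective hi).trans (MulEquiv.subgroupCongr h2)⟩

end CA.GRes
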