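import Cfsg.Agent.Lib.Comp.DCos

/-! Double coset enumeration for `G = ⟨H, z⟩`, where `z` normalises a point stabiliser of `H`. -/

set_option autoImplicit false

namespace CA.TCos
open Equiv CA.CNet CA.CWord CA.CLevel CA.CSimple CA.CPoint CA.CTodd

universe u

/-- `p i = h • p j` (`t = 0`) or `z • w • p i = h • p j` (`t = 1`) -/
structure Fact where
  t : ℕ
  i : ℕ
  w : Word
  j : ℕ
  h : Word
  deriving DecidableEq

structure St where
  c : ℕ
  u : Word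
  ls : List Word

structure Sys (C : Ctx) (H : Subgroup (Perm (Fin C.n))) (X : Type u) (KW SW : List Word) where
  ρ : H →* Perm X
  Z : X → X
  p : ℕ → X
  mem : ∀ w, C.ev w ∈ H
  tw : ∀ v ξ, Z (ρ ⟨_, mem (subst SW v)⟩ ξ) = ρ ⟨_, mem (subst KW v)⟩ (Z ξ)
  h0 : ∀ h, ρ h (p 0) = p 0

noncomputable def step (f : ℕ → ℕ → ℕ) (B : List ℕ) (KW SW : List Word) (e : Fact) (d : ℕ) (v : Word) (s : St)
    (k : St → Bool) : Bool :=
  if d = 0 then decide (e.t = 0 ∧ e.i = s.c) && k ⟨e.j, lapp s.u e.h, s.ls⟩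
  else if d = 1 then decide (e.t = 0 ∧ e.j = s.c) && k ⟨e.i, lapp s.u (winv e.h), s.ls⟩
  else if d = 2 then decide (e.t = 1 ∧ e.i = s.c) && (eqQ f B (s.u, lapp (subst SW v) e.w) &&
    List.rec (motive := fun _ => Bool) false (fun x ls _ => k ⟨e.j, lapp x (lapp (subst KW v) e.h), ls⟩) s.ls)
  else decide (s.c = 0) && k ⟨0, subst SW v, s.ls⟩

noncomputable def walk (f : ℕ → ℕ → ℕ) (B : List ℕ) (KW SW : List Word) (F : List Fact) (t : ℕ) (fin : St → Bool)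
    (mv : List (ℕ × Word)) : St → Bool :=
  List.rec (motive := fun _ => St → Bool) fin (fun m _ ih s =>
    Nat.blt (m.1 / 4) t && step f B KW SW (nth F ⟨0, 0, [], 0, []⟩ (m.1 / 4)) (m.1 % 4) m.2 s ih) mv

noncomputable def chk (f : ℕ → ℕ → ℕ) (B : List ℕ) (KW SW : List Word) (F : List Fact) (t : ℕ) (e : Fact)
    (R : List Word) (u : Word) (mv : List (ℕ × Word)) (v : Word) : Bool :=
  walk f B KW SW F t (fun s => step f B KW SW e (2 * e.t) v s fun s' =>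
    decide (s'.ls = []) && eqQ f B (s'.u, u)) mv ⟨e.j, u, R⟩ && decide (e.t < 2)

variable {C : Ctx} {H : Subgroup (Perm (Fin C.n))} {X : Type u} {KW SW : List Word} {f : ℕ → ℕ → ℕ}

namespace Sys
variable (S : Sys C H X KW SW)
noncomputable def w (u : Word) : H := ⟨C.ev u, S.mem u⟩
def Holds (e : Fact) : Prop :=
  (e.t = 0 → S.p e.i = S.ρ (S.w e.h) (S.p e.j)) ∧ (e.t = 1 → S.Z (S.ρ (S.w e.w) (S.p e.i)) = S.ρ (S.w e.h) (S.p e.j))
noncomputable def app (ls : List Word) (ξ : X) : X := ls.foldl (fun ξ x => S.ρ (S.w x) (S.Z ξ)) ξ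
def Rel (R : List Word) : Prop := ∀ ξ, S.app R ξ = ξ
noncomputable def val (s : St) : X := S.app s.ls (S.ρ (S.w s.u) (S.p s.c))

theorem w_nil : S.w [] = 1 := rfl
theorem w_lapp (u v : Word) : S.w (lapp u v) = S.w u * S.w v := Subtype.ext (ev_lapp _ _ _)
theorem w_winv (u : Word) : S.w (winv u) = (S.w u)⁻¹ := Subtype.ext (ev_winv _ _)
theorem w_eq (hf : Good C f) {B : List ℕ} (hB : IsBase H B) {u v : Word} (h : eqQ f B (u, v) = true) : S.w u = S.w v :=
  Subtype.ext (eq_of_eqQ hf hB (S.mem _) (S.mem _) h)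
theorem tw' (v : Word) (ξ : X) : S.Z (S.ρ (S.w (subst SW v)) ξ) = S.ρ (S.w (subst KW v)) (S.Z ξ) := S.tw v ξ

variable {S}
theorem step_sound (hf : Good C f) {B : List ℕ} (hB : IsBase H B) {e : Fact} (he : S.Holds e) {d : ℕ} {v : Word} {s : St}
    {k : St → Bool} (h : step f B KW SW e d v s k = true) : ∃ s', k s' = true ∧ S.val s = S.val s' := by
  obtain ⟨c, u, ls⟩ := s
  unfold step at h
  split_ifs at h <;> simp only [Bool.and_eq_true, decide_eq_true_eq] at h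
  · obtain ⟨⟨h1, rfl⟩, h2⟩ := h
    exact ⟨_, h2, by simp only [val]; rw [he.1 h1, w_lapp, map_mul, Perm.mul_apply]⟩
  · obtain ⟨⟨h1, rfl⟩, h2⟩ := h
    exact ⟨_, h2, by simp only [val]; rw [he.1 h1, w_lapp, w_winv]; simp⟩
  · obtain ⟨⟨h1, rfl⟩, h2, h3⟩ := h
    cases ls with
    | nil => exact absurd h3 (by simp)
    | cons x ls =>
      refine ⟨_, h3, congrArg (S.app ls) ?_⟩
      show S.ρ (S.w x) (S.Z _) = _
      simp only []
      rw [S.w_eq hf hB h2, w_lapp, map_mul, Perm.mul_apply, tw', he.2 h1]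
      simp [w_lapp]
  · obtain ⟨rfl, h2⟩ := h
    exact ⟨_, h2, by simp only [val, S.h0]⟩

theorem walk_sound (hf : Good C f) {B : List ℕ} (hB : IsBase H B) {F : List Fact} {t : ℕ}
    (hF : ∀ q < t, S.Holds (nth F ⟨0, 0, [], 0, []⟩ q)) {fin : St → Bool} (mv : List (ℕ × Word)) {s : St}
    (h : walk f B KW SW F t fin mv s = true) : ∃ s', fin s' = true ∧ S.val s = S.val s' := by
  induction mv generalizing s with
  | nil => exact ⟨s, h, rfl⟩
  | cons m mv ih =>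
    have h' : (Nat.blt (m.1 / 4) t && step f B KW SW (nth F ⟨0, 0, [], 0, []⟩ (m.1 / 4)) (m.1 % 4) m.2 s
      (walk f B KW SW F t fin mv)) = true := h
    rw [Bool.and_eq_true, Nat.blt_eq] at h'
    obtain ⟨s1, a1, a2⟩ := step_sound hf hB (hF _ h'.1) h'.2
    obtain ⟨s2, b1, b2⟩ := ih a1
    exact ⟨s2, b1, a2.trans b2⟩

theorem chk_sound (hf : Good C f) {B : List ℕ} (hB : IsBase H B) {F : List Fact} {t : ℕ}
    (hF : ∀ q < t, S.Holds (nth F ⟨0, 0, [], 0, []⟩ q)) {e : Fact} {R : List Word} (hR : S.Rel R) {u : Word}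
    {mv : List (ℕ × Word)} {v : Word} (h : chk f B KW SW F t e R u mv v = true) : S.Holds e := by
  rw [chk, Bool.and_eq_true, decide_eq_true_eq] at h
  obtain ⟨⟨c, u', ls⟩, a1, a2⟩ := walk_sound hf hB hF mv h.1
  have a3 : S.ρ (S.w u) (S.p e.j) = S.app ls (S.ρ (S.w u') (S.p c)) := (hR _).symm.trans a2
  refine ⟨fun ht => ?_, fun ht => ?_⟩ <;> rw [ht] at a1 <;> simp only [step, Nat.reduceMul, Nat.mul_zero, if_true,
    OfNat.ofNat_ne_zero, OfNat.ofNat_ne_one, if_false, Bool.and_eq_true, decide_eq_true_eq] at a1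
  · obtain ⟨⟨-, rfl⟩, rfl, h2⟩ := a1
    rw [← S.w_eq hf hB h2, w_lapp, map_mul, Perm.mul_apply] at a3
    exact ((S.ρ _).injective a3).symm
  · obtain ⟨⟨-, rfl⟩, h2, h3⟩ := a1
    cases ls with
    | nil => exact absurd h3 (by simp)
    | cons x ls =>
      simp only [Bool.and_eq_true, decide_eq_true_eq] at h3
      obtain ⟨rfl, h3⟩ := h3
      change _ = S.ρ (S.w x) (S.Z _) at a3
      rw [← S.w_eq hf hB h3, S.w_eq hf hB h2, w_lapp, w_lapp, w_lapp, map_mul, map_mul, map_mul, Perm.mul_apply,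
        Perm.mul_apply, Perm.mul_apply, tw'] at a3
      exact ((S.ρ _).injective ((S.ρ _).injective a3)).symm

end Sys

noncomputable def allD (f : ℕ → ℕ → ℕ) (B : List ℕ) (KW SW : List Word) (F A : List Fact) (RL : List (List Word))
    (D : List (ℕ × Word × List (ℕ × Word) × Word)) : ℕ → Bool :=
  List.rec (motive := fun _ => ℕ → Bool) (fun _ => true) (fun d _ ih t =>
    (decide (nth F ⟨0, 0, [], 0, []⟩ t ∈ A) ||
      chk f B KW SW F t (nth F ⟨0, 0, [], 0, []⟩ t) (nth RL [] d.1) d.2.1 d.2.2.1 d.2.2.2) && force (Nat.succ t) ih) D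

theorem allD_sound {S : Sys C H X KW SW} (hf : Good C f) {B : List ℕ} (hB : IsBase H B) {F A : List Fact}
    (hA : ∀ e ∈ A, S.Holds e) {RL : List (List Word)} (hR : ∀ R ∈ RL, S.Rel R)
    {D : List (ℕ × Word × List (ℕ × Word) × Word)} {t : ℕ} (hF : ∀ q < t, S.Holds (nth F ⟨0, 0, [], 0, []⟩ q))
    (h : allD f B KW SW F A RL D t = true) : ∀ q < t + D.length, S.Holds (nth F ⟨0, 0, [], 0, []⟩ q) := by
  induction D generalizing t with
  | nil => exact hF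
  | cons d D ih =>
    have h' : ((decide (nth F ⟨0, 0, [], 0, []⟩ t ∈ A) ||
      chk f B KW SW F t (nth F ⟨0, 0, [], 0, []⟩ t) (nth RL [] d.1) d.2.1 d.2.2.1 d.2.2.2) &&
      force (Nat.succ t) (allD f B KW SW F A RL D)) = true := h
    rw [force_eq, Bool.and_eq_true, Bool.or_eq_true, decide_eq_true_eq] at h'
    rw [List.length_cons, ← Nat.add_assoc, Nat.add_right_comm]
    refine ih (fun q hq => (Nat.lt_succ_iff_lt_or_eq.1 hq).elim (hF q) ?_) h'.2
    rintro rfl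
    refine h'.1.elim (hA _) (Sys.chk_sound hf hB hF ?_)
    rcases nth_mem_or RL [] d.1 with h | h
    · exact hR _ h
    · rw [h]; exact fun _ => rfl

/-- the starting points of the edges from `i` to `j` -/
noncomputable def st (f : ℕ → ℕ → ℕ) (F : List Fact) (i j : ℕ) : ℕ :=
  List.rec (motive := fun _ => ℕ) 0 (fun e _ ih => if e.t = 1 ∧ e.i = i ∧ e.j = j then Nat.lor (bit (ipt f e.w 0)) ih else ih) F

theorem st_spec {F : List Fact} {i j a : ℕ} (h : (st f F i j).testBit a = true) :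
    ∃ e ∈ F, e.t = 1 ∧ e.i = i ∧ e.j = j ∧ ipt f e.w 0 = a := by
  induction F with
  | nil => exact absurd h (by simp [st])
  | cons e F ih =>
    have h' : (if e.t = 1 ∧ e.i = i ∧ e.j = j then bit (ipt f e.w 0) ||| st f F i j else st f F i j).testBit a = true := h
    split_ifs at h' with c
    · rw [Nat.testBit_or, Bool.or_eq_true, testBit_bit] at h'
      rcases h' with h | h
      · exact ⟨e, by simp, c.1, c.2.1, c.2.2, by simpa using h⟩
      · obtain ⟨e', h1, h2⟩ := ih h; exact ⟨e', by simp [h1], h2⟩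
    · obtain ⟨e', h1, h2⟩ := ih h'; exact ⟨e', by simp [h1], h2⟩

namespace Sys
variable (S : Sys C H X KW SW)

def O (j : ℕ) : Set X := Set.range fun h : H => S.ρ h (S.p j)

theorem O_smul {j : ℕ} {ξ : X} (h : ξ ∈ S.O j) (g : H) : S.ρ g ξ ∈ S.O j := by
  obtain ⟨k, rfl⟩ := h
  exact ⟨g * k, by simp⟩

theorem O_eq {i j : ℕ} {ξ : X} (h : ξ ∈ S.O i) (h' : ξ ∈ S.O j) : S.O i = S.O j := by
  have : ∀ {i j : ℕ}, ξ ∈ S.O i → ξ ∈ S.O j → S.O i ⊆ S.O j := by
    rintro i j ⟨k, rfl⟩ h' _ ⟨g, rfl⟩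
    simpa using S.O_smul h' (g * k⁻¹)
  exact (this h h').antisymm (this h' h)

theorem edge (hC : C.ok = true) (hf : Good C f) {o : Fin C.n} (ho : (o : ℕ) = 0) (hK : ∀ g ∈ H, g o = o → g ∈ C.grp SW)
    {F : List Fact} (hF : ∀ e ∈ F, S.Holds e) {i j : ℕ} {gw : List Word} (hg : ∀ w ∈ gw, S.ρ (S.w w) (S.p i) = S.p i)
    {sched : List ℕ} (h : H) (hm : (C.clo gw sched (st f F i j)).testBit (h.1⁻¹ o) = true) :
    S.Z (S.ρ h (S.p i)) ∈ S.O j := by
  obtain ⟨x, hx, hb⟩ := Ctx.clo_spec hC _ _ _ _ hm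
  obtain ⟨e, he, a1, rfl, rfl, a2⟩ := st_spec hb
  have : C.grp gw ≤ ((MulAction.stabilizer (Perm X) (S.p e.i)).comap S.ρ).map H.subtype := by
    rw [grp_le_iff]; exact fun w hw => ⟨S.w w, hg w hw, rfl⟩
  obtain ⟨x, hx', rfl⟩ := this hx
  have b1 : S.ρ x (S.p e.i) = S.p e.i := hx'
  rw [← ho, ipt_eq hf] at a2
  have b2 : (C.ev e.w)⁻¹ o = x.1 (h.1⁻¹ o) := Fin.ext a2
  obtain ⟨v, hv⟩ := exists_subst (hK (h * x⁻¹ * (S.w e.w)⁻¹ : H).1 (Subtype.prop _) (by
    show h.1 (x.1⁻¹ ((C.ev e.w)⁻¹ o)) = o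
    rw [b2]; simp))
  have b3 : h = S.w (subst SW v) * S.w e.w * x := by
    rw [show S.w (subst SW v) = h * x⁻¹ * (S.w e.w)⁻¹ from Subtype.ext hv]; group
  rw [b3, map_mul, map_mul, Perm.mul_apply, Perm.mul_apply, b1, tw', (hF e he).2 a1]
  exact S.O_smul ⟨_, rfl⟩ _

noncomputable def A (i j : ℕ) : ℕ := Nat.card {h : H // S.Z (S.ρ h (S.p i)) ∈ S.O j}
noncomputable def c (i j : ℕ) : ℕ := Nat.card {ξ // ξ ∈ S.O i ∧ S.Z ξ ∈ S.O j}

theorem fib {G Y : Type*} [Group G] [MulAction G Y] (y : Y) (T : Set Y) :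
    Nat.card {g : G // g • y ∈ T} =
      Nat.card (MulAction.stabilizer G y) * Nat.card {ξ // ξ ∈ MulAction.orbit G y ∧ ξ ∈ T} := by
  rw [← Nat.card_prod]
  have hs : ∀ ξ : {ξ // ξ ∈ MulAction.orbit G y ∧ ξ ∈ T}, ∃ g : G, g • y = ξ := fun ξ => ξ.2.1
  choose s hs using hs
  refine (Nat.card_congr (Equiv.ofBijective
    (fun x : MulAction.stabilizer G y × {ξ // ξ ∈ MulAction.orbit G y ∧ ξ ∈ T} =>
      (⟨s x.2 * x.1, by rw [mul_smul, show x.1.1 • y = y from x.1.2, hs]; exact x.2.2.2⟩ : {g : G // g • y ∈ T})) ⟨?_, ?_⟩)).symm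
  · rintro ⟨a, ξ⟩ ⟨b, η⟩ h
    have h : s ξ * a = s η * b := congrArg Subtype.val h
    have h2 := congrArg (· • y) h
    simp only [mul_smul, show a.1 • y = y from a.2, show b.1 • y = y from b.2, hs] at h2
    obtain rfl := Subtype.ext h2
    rw [Subtype.ext (mul_left_cancel h)]
  · rintro ⟨g, hg⟩
    refine ⟨⟨⟨(s ⟨g • y, ⟨g, rfl⟩, hg⟩)⁻¹ * g, ?_⟩, ⟨g • y, ⟨g, rfl⟩, hg⟩⟩, Subtype.ext (by simp)⟩
    rw [MulAction.mem_stabilizer_iff, mul_smul, inv_smul_eq_iff, hs]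

theorem A_mul (i j : ℕ) : S.A i j * Nat.card (S.O i) = Nat.card H * S.c i j := by
  let := MulAction.compHom X S.ρ
  have h1 := fib (G := H) (S.p i) {ξ | S.Z ξ ∈ S.O j}
  have h2 := Nat.card_congr (MulAction.orbitProdStabilizerEquivGroup H (S.p i))
  rw [Nat.card_prod] at h2
  rw [A, ← h2]
  refine (congrArg (· * _) h1).trans ?_
  show _ * S.c i j * Nat.card (MulAction.orbit H (S.p i)) = _
  ring

theorem O_fin (j : ℕ) : Finite (S.O j) := Set.finite_range _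

theorem c_symm {u : H} (hz : ∀ ξ, S.Z (S.Z ξ) = S.ρ u ξ) (i j : ℕ) : S.c i j = S.c j i := by
  have : ∀ i j, S.c i j ≤ S.c j i := fun i j => by
    have := S.O_fin j
    have : Finite {ξ // ξ ∈ S.O j ∧ S.Z ξ ∈ S.O i} :=
      Finite.of_injective (fun x => (⟨x.1, x.2.1⟩ : S.O j)) fun a b h => Subtype.ext (congrArg Subtype.val h :)
    refine Nat.card_le_card_of_injective (fun x => ⟨S.Z x.1, x.2.2, by rw [hz]; exact S.O_smul x.2.1 _⟩) fun a b h => ?_
    have h : S.Z a.1 = S.Z b.1 := congrArg Subtype.val h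
    exact Subtype.ext ((S.ρ u).injective (by rw [← hz, ← hz, h]))
  exact (this i j).antisymm (this j i)

theorem A_congr {i i' : ℕ} (h : S.O i = S.O i') (j : ℕ) : S.A i j = S.A i' j := by
  have h1 := S.A_mul i j
  have h2 := S.A_mul i' j
  have := S.O_fin i'
  have : Nonempty (S.O i') := ⟨⟨_, 1, rfl⟩⟩
  rw [c, h] at h1
  exact Nat.eq_of_mul_eq_mul_right Nat.card_pos (h1.trans h2.symm)

theorem A_eq (hC : C.ok = true) {o : Fin C.n} (ht : ∀ a, ∃ g ∈ H, g o = a) {J i j : ℕ} {M : ℕ → ℕ}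
    (hM : ∀ j < J, ∀ h : H, (M j).testBit (h.1⁻¹ o) = true → S.Z (S.ρ h (S.p i)) ∈ S.O j)
    (hc : ∀ a : Fin C.n, ∃ j < J, (M j).testBit a = true) (hj : j < J) (hd : ∀ j' < J, S.O j' = S.O j → j' = j) :
    S.A i j * C.n = Nat.card H * cnt C.n (M j) := by
  have h1 := fib (G := H) o {a | (M j).testBit a = true}
  have h2 := Nat.card_congr (MulAction.orbitProdStabilizerEquivGroup H o)
  have h3 : ∀ a, a ∈ MulAction.orbit H o := fun a => by obtain ⟨g, hg, e⟩ := ht a; exact ⟨⟨g, hg⟩, e⟩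
  rw [Nat.card_prod, Set.eq_univ_of_forall h3, Nat.card_univ, Nat.card_fin] at h2
  simp only [h3, true_and, Set.mem_ofPred_eq, card_mask hC] at h1
  have h4 : S.A i j = Nat.card {g : H // (M j).testBit (g • o : Fin C.n) = true} :=
    Nat.card_congr ((Equiv.inv H).subtypeEquiv fun h => ⟨fun hh => by
      obtain ⟨j', a1, a2⟩ := hc (h.1⁻¹ o)
      exact hd j' a1 (S.O_eq (hM j' a1 h a2) hh) ▸ a2, hM j hj h⟩)
  rw [h4, h1, ← h2]; ring

end Sys
end CA.TCos
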