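import Cfsg.Agent.Lib.Comp.TCos

/-! Larger double coset tables: stored in two levels, with one relator that only holds at the base point. -/

set_option autoImplicit false

namespace CA.TCos
open Equiv CA.CNet CA.CWord CA.CLevel CA.CSimple CA.CPoint CA.CTodd

universe u

noncomputable def fget (F : List (List Fact)) (m : ℕ) : Fact :=
  nth (nth F [] (Nat.shiftRight m 6)) ⟨0, 0, [], 0, []⟩ (Nat.land m 63)

noncomputable def walk2 (f : ℕ → ℕ → ℕ) (B : List ℕ) (KW SW : List Word) (F : ℕ → Fact) (t : ℕ) (fin : St → Bool)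
    (mv : List (ℕ × Word)) : St → Bool :=
  List.rec (motive := fun _ => St → Bool) fin (fun m _ ih s => force (Nat.shiftRight m.1 2) fun q =>
    force (Nat.land m.1 3) fun d => Nat.blt q t && step f B KW SW (F q) d m.2 s ih) mv

noncomputable def chk2 (f : ℕ → ℕ → ℕ) (B : List ℕ) (KW SW : List Word) (F : ℕ → Fact) (t : ℕ) (e : Fact)
    (R : List Word) (u : Word) (mv : List (ℕ × Word)) (v : Word) : Bool :=
  walk2 f B KW SW F t (fun s => step f B KW SW e (2 * e.t) v s fun s' =>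
    decide (s'.ls = []) && eqQ f B (s'.u, u)) mv ⟨e.j, u, R⟩ && decide (e.t < 2)

variable {C : Ctx} {H : Subgroup (Perm (Fin C.n))} {X : Type u} {KW SW : List Word} {f : ℕ → ℕ → ℕ}

namespace Sys
variable {S : Sys C H X KW SW}

theorem walk2_sound (hf : Good C f) {B : List ℕ} (hB : IsBase H B) {F : ℕ → Fact} {t : ℕ}
    (hF : ∀ q < t, S.Holds (F q)) {fin : St → Bool} (mv : List (ℕ × Word)) {s : St}
    (h : walk2 f B KW SW F t fin mv s = true) : ∃ s', fin s' = true ∧ S.val s = S.val s' := by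
  induction mv generalizing s with
  | nil => exact ⟨s, h, rfl⟩
  | cons m mv ih =>
    have h' : (force (Nat.shiftRight m.1 2) fun q => force (Nat.land m.1 3) fun d =>
      Nat.blt q t && step f B KW SW (F q) d m.2 s (walk2 f B KW SW F t fin mv)) = true := h
    rw [force_eq, force_eq, Bool.and_eq_true, Nat.blt_eq] at h'
    obtain ⟨s1, a1, a2⟩ := step_sound hf hB (hF _ h'.1) h'.2
    obtain ⟨s2, b1, b2⟩ := ih a1
    exact ⟨s2, b1, a2.trans b2⟩

theorem chk2_sound (hf : Good C f) {B : List ℕ} (hB : IsBase H B) {F : ℕ → Fact} {t : ℕ}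
    (hF : ∀ q < t, S.Holds (F q)) {e : Fact} {R : List Word} {u : Word}
    (hR : S.app R (S.ρ (S.w u) (S.p e.j)) = S.ρ (S.w u) (S.p e.j))
    {mv : List (ℕ × Word)} {v : Word} (h : chk2 f B KW SW F t e R u mv v = true) : S.Holds e := by
  rw [chk2, Bool.and_eq_true, decide_eq_true_eq] at h
  obtain ⟨⟨c, u', ls⟩, a1, a2⟩ := walk2_sound hf hB hF mv h.1
  have a3 : S.ρ (S.w u) (S.p e.j) = S.app ls (S.ρ (S.w u') (S.p c)) := hR.symm.trans a2
  refine ⟨fun ht => ?_, fun ht => ?_⟩ <;> rw [ht] at a1 <;> simp only [step, Nat.reduceMul, Nat.mul_zero, if_true,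
    OfNat.ofNat_ne_zero, OfNat.ofNat_ne_one, if_false, Bool.and_eq_true, decide_eq_true_eq] at a1
  · obtain ⟨⟨-, rfl⟩, rfl, h2⟩ := a1
    rw [← S.w_eq hf hB h2, w_lapp, map_mul, Perm.mul_apply] at a3
    exact ((S.ρ _).injective a3).symm
  · obtain ⟨⟨-, rfl⟩, h2, h3⟩ := a1
    cases ls with
    | nil => exact absurd h3 (by simp)
    | cons x ls =>
      simp only [Bool.and_eq_true, decide_eq_true_eq] at h3
      obtain ⟨rfl, h3⟩ := h3
      change _ = S.ρ (S.w x) (S.Z _) at a3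
      rw [← S.w_eq hf hB h3, S.w_eq hf hB h2, w_lapp, w_lapp, w_lapp, map_mul, map_mul, map_mul, Perm.mul_apply,
        Perm.mul_apply, Perm.mul_apply, tw'] at a3
      exact ((S.ρ _).injective ((S.ρ _).injective a3)).symm

end Sys

noncomputable def allD2 (f : ℕ → ℕ → ℕ) (B : List ℕ) (KW SW : List Word) (F : ℕ → Fact) (A : List Fact)
    (RL : List (List Word)) (R0 : List Word) (D : List (ℕ × Word × List (ℕ × Word) × Word)) : ℕ → Bool :=
  List.rec (motive := fun _ => ℕ → Bool) (fun _ => true) (fun d _ ih t =>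
    (if d.1 = 100 then decide (F t ∈ A) else if d.1 = 101 then
      decide ((F t).j = 0) && chk2 f B KW SW F t (F t) R0 d.2.1 d.2.2.1 d.2.2.2 else
      chk2 f B KW SW F t (F t) (nth RL [] d.1) d.2.1 d.2.2.1 d.2.2.2) && force (Nat.succ t) ih) D

theorem allD2_sound {S : Sys C H X KW SW} (hf : Good C f) {B : List ℕ} (hB : IsBase H B) {F : ℕ → Fact} {A : List Fact}
    (hA : ∀ e ∈ A, S.Holds e) {RL : List (List Word)} (hR : ∀ R ∈ RL, S.Rel R) {R0 : List Word}
    (h0 : S.app R0 (S.p 0) = S.p 0)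
    {D : List (ℕ × Word × List (ℕ × Word) × Word)} {t t' : ℕ} (hF : ∀ q < t, S.Holds (F q))
    (h : allD2 f B KW SW F A RL R0 D t = true) (ht : t' = t + D.length) : ∀ q < t', S.Holds (F q) := by
  subst ht
  induction D generalizing t with
  | nil => exact hF
  | cons d D ih =>
    have h' : ((if d.1 = 100 then decide (F t ∈ A) else if d.1 = 101 then
      decide ((F t).j = 0) && chk2 f B KW SW F t (F t) R0 d.2.1 d.2.2.1 d.2.2.2 else
      chk2 f B KW SW F t (F t) (nth RL [] d.1) d.2.1 d.2.2.1 d.2.2.2) &&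
      force (Nat.succ t) (allD2 f B KW SW F A RL R0 D)) = true := h
    rw [force_eq, Bool.and_eq_true] at h'
    rw [List.length_cons, ← Nat.add_assoc, Nat.add_right_comm]
    refine ih (fun q hq => (Nat.lt_succ_iff_lt_or_eq.1 hq).elim (hF q) ?_) h'.2
    rintro rfl
    have h1 := h'.1
    split_ifs at h1
    · exact hA _ (of_decide_eq_true h1)
    · rw [Bool.and_eq_true, decide_eq_true_eq] at h1
      exact Sys.chk2_sound hf hB hF (by rw [h1.1, S.h0, h0]) h1.2
    · refine Sys.chk2_sound hf hB hF ?_ h1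
      rcases nth_mem_or RL [] d.1 with h | h
      · exact hR _ h _
      · rw [h]; rfl

/-- the starting points of the edges into the class `j` -/
noncomputable def st2 (E : List (ℕ × ℕ)) (j : ℕ) : ℕ :=
  List.rec (motive := fun _ => ℕ) 0 (fun e _ ih => Bool.rec ih (Nat.lor (bit e.2) ih) (Nat.beq e.1 j)) E

theorem st2_spec {E : List (ℕ × ℕ)} {j a : ℕ} (h : (st2 E j).testBit a = true) : (j, a) ∈ E := by
  induction E with
  | nil => exact absurd h (by simp [st2])
  | cons e E ih =>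
    have h' : (Bool.rec (st2 E j) (bit e.2 ||| st2 E j) (Nat.beq e.1 j) : ℕ).testBit a = true := h
    cases c : Nat.beq e.1 j <;> rw [c] at h'
    · exact List.mem_cons_of_mem _ (ih h')
    · rw [Nat.testBit_or, Bool.or_eq_true, testBit_bit] at h'
      rcases h' with h | h
      · have h1 := Nat.eq_of_beq_eq_true c
        have h2 : e.2 = a := by simpa using h
        exact h1 ▸ h2 ▸ List.mem_cons_self
      · exact List.mem_cons_of_mem _ (ih h)

/-- `(q, j, a)`: the fact `q` is an edge from `i`, at the point `a`, into the class `j` -/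
noncomputable def edOK (f : ℕ → ℕ → ℕ) (F : ℕ → Fact) (T : ℕ) (cls : List ℕ) (i : ℕ) (r : ℕ × ℕ × ℕ) : Bool :=
  decide (r.1 < T ∧ (F r.1).t = 1 ∧ (F r.1).i = i ∧ nth cls 0 (F r.1).j = r.2.1 ∧ ipt f (F r.1).w 0 = r.2.2)

noncomputable def uni2 (l : List ℕ) : ℕ := List.rec (motive := fun _ => ℕ) 0 (fun a _ ih => Nat.lor a ih) l

theorem uni2_spec {l : List ℕ} {a : ℕ} (h : (uni2 l).testBit a = true) : ∃ m ∈ l, m.testBit a = true := by
  induction l with
  | nil => exact absurd h (by simp [uni2])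
  | cons m l ih =>
    have h' : (m ||| uni2 l).testBit a = true := h
    rw [Nat.testBit_or, Bool.or_eq_true] at h'
    rcases h' with h | h
    · exact ⟨m, by simp, h⟩
    · obtain ⟨m', h1, h2⟩ := ih h; exact ⟨m', by simp [h1], h2⟩

noncomputable def MK (C : Ctx) (gw : List Word) (sc : List (List ℕ)) (E : List (ℕ × ℕ × ℕ)) (j : ℕ) : ℕ :=
  C.clo gw (nth sc [] j) (st2 (lmap Prod.snd E) j)

noncomputable def rowOK (C : Ctx) (f : ℕ → ℕ → ℕ) (F : ℕ → Fact) (T : ℕ) (cls : List ℕ) (J i : ℕ) (gs : List ℕ)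
    (sc : List (List ℕ)) (E : List (ℕ × ℕ × ℕ)) (mm : List ℕ) : Bool :=
  (lall gs fun q => decide (q < T ∧ (F q).t = 0 ∧ (F q).i = i ∧ (F q).j = i)) && (lall E (edOK f F T cls i) &&
    (sub (full C.n) (uni2 ((List.range J).map (MK C (lmap (fun q => (F q).h) gs) sc E))) &&
      decide (∀ j < J, cnt C.n (MK C (lmap (fun q => (F q).h) gs) sc E j) = nth mm 0 j)))

namespace Sys
variable (S : Sys C H X KW SW)

/-- row `i` of the table -/
def Row (o : Fin C.n) (J i : ℕ) (mm : List ℕ) : Prop := ∃ M : ℕ → ℕ,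
  (∀ j < J, ∀ h : H, (M j).testBit (h.1⁻¹ o) = true → S.Z (S.ρ h (S.p i)) ∈ S.O j) ∧
  (∀ a : Fin C.n, ∃ j < J, (M j).testBit a = true) ∧ ∀ j < J, cnt C.n (M j) = nth mm 0 j

theorem row_of (hC : C.ok = true) (hf : Good C f) {o : Fin C.n} (ho : (o : ℕ) = 0) (hK : ∀ g ∈ H, g o = o → g ∈ C.grp SW)
    {F : ℕ → Fact} {T : ℕ} (hF : ∀ q < T, S.Holds (F q)) {cls : List ℕ} (hc : ∀ j, S.O (nth cls 0 j) = S.O j ∨ cls.length ≤ j)
    (hj : ∀ q < T, (F q).j < cls.length)
    {J i : ℕ} {gs : List ℕ} {sc : List (List ℕ)} {E : List (ℕ × ℕ × ℕ)} {mm : List ℕ}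
    (h : rowOK C f F T cls J i gs sc E mm = true) : S.Row o J i mm := by
  simp only [rowOK, Bool.and_eq_true, lall_iff, decide_eq_true_eq, edOK] at h
  obtain ⟨h1, h2, h3, h4⟩ := h
  refine ⟨_, fun j _ h hm => ?_, fun a => ?_, h4⟩
  · obtain ⟨x, hx, hb⟩ := Ctx.clo_spec hC _ _ _ _ hm
    have hb := st2_spec hb
    rw [lmap_eq] at hb
    obtain ⟨r, hr, e⟩ := List.mem_map.1 hb
    obtain ⟨a0, a1, a2, a3, a4⟩ := h2 r hr
    rw [e] at a3 a4
    have := S.edge hC hf ho hK (F := [F r.1]) (by simpa using hF _ a0) (i := i) (j := (F r.1).j) (gw := [])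
      (by simp) (sched := [])
    have hx' : C.grp (lmap (fun q => (F q).h) gs) ≤ ((MulAction.stabilizer (Perm X) (S.p i)).comap S.ρ).map H.subtype := by
      rw [grp_le_iff, lmap_eq]
      intro w hw
      obtain ⟨q, hq, rfl⟩ := List.mem_map.1 hw
      obtain ⟨b0, b1, b2, b3⟩ := h1 q hq
      have := (hF q b0).1 b1
      rw [b2, b3] at this
      exact ⟨S.w _, this.symm, rfl⟩
    obtain ⟨x, hx2, rfl⟩ := hx' hx
    have b1 : S.ρ x (S.p i) = S.p i := hx2
    have b2 := this (h * x⁻¹) (by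
      show (st f [F r.1] i (F r.1).j).testBit _ = true
      have : st f [F r.1] i (F r.1).j = bit (ipt f (F r.1).w 0) ||| 0 := if_pos ⟨a1, a2, rfl⟩
      rw [this, a4]; simp [testBit_bit])
    rw [map_mul, Perm.mul_apply, map_inv, show (S.ρ x)⁻¹ (S.p i) = S.p i from Perm.inv_eq_iff_eq.2 b1.symm] at b2
    have b3 := (hc (F r.1).j).resolve_right (Nat.not_le.2 (hj _ a0))
    rw [a3] at b3
    exact b3 ▸ b2
  · obtain ⟨m, hm, e⟩ := uni2_spec (sub_spec h3 (i := a) (by simp [testBit_full]))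
    obtain ⟨j, hj, rfl⟩ := List.mem_map.1 hm
    exact ⟨j, List.mem_range.1 hj, e⟩

theorem row0 (hC : C.ok = true) {o : Fin C.n} {J : ℕ} (h : S.Z (S.p 0) = S.p 1) (hJ : 1 < J) {mm : List ℕ}
    (hm : ∀ j < J, nth mm 0 j = if j = 1 then C.n else 0) : S.Row o J 0 mm := by
  refine ⟨fun j => if j = 1 then full C.n else 0, fun j _ k hk => ?_, fun a => ⟨1, hJ, by simp [testBit_full]⟩, fun j hj => ?_⟩
  · simp only [] at hk
    split_ifs at hk with c
    · rw [S.h0, h, c]; exact ⟨1, by simp⟩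
    · simp at hk
  · rw [hm j hj, cnt_eq (Ctx.ok_lt hC)]
    split_ifs with c <;> simp [testBit_full, c]

theorem A_row (hC : C.ok = true) {o : Fin C.n} (ht : ∀ a, ∃ g ∈ H, g o = a) {J i j : ℕ} {mm : List ℕ} (h : S.Row o J i mm)
    (hj : j < J) (hd : ∀ j' < J, S.O j' = S.O j → j' = j) : S.A i j * C.n = Nat.card H * nth mm 0 j := by
  obtain ⟨M, h1, h2, h3⟩ := h
  rw [S.A_eq hC ht h1 h2 hj hd, h3 j hj]

theorem Row.closed {o : Fin C.n} {J i : ℕ} {mm : List ℕ} (h : S.Row o J i mm) (k : H) :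
    ∃ j < J, S.Z (S.ρ k (S.p i)) ∈ S.O j := by
  obtain ⟨M, h1, h2, -⟩ := h
  obtain ⟨j, hj, a⟩ := h2 (k.1⁻¹ o)
  exact ⟨j, hj, h1 j hj k a⟩

theorem Row.pos (hC : C.ok = true) {o : Fin C.n} (ht : ∀ a, ∃ g ∈ H, g o = a) {J i j : ℕ} {mm : List ℕ} (h : S.Row o J i mm)
    (hj : j < J) (hp : nth mm 0 j ≠ 0) : ∃ k : H, S.Z (S.ρ k (S.p i)) ∈ S.O j := by
  obtain ⟨M, h1, -, h3⟩ := h
  rw [← h3 j hj, cnt_eq (Ctx.ok_lt hC), Finset.card_ne_zero] at hp
  obtain ⟨a, ha⟩ := hp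
  obtain ⟨g, hg, rfl⟩ := ht a
  exact ⟨⟨g, hg⟩⁻¹, h1 j hj _ (by simpa using ha)⟩

end Sys
end CA.TCos
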